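import Mathlib
import Cfsg.Agent.Lib.SameOrder.Sound

/-!
# Groups of order `q (q - 1) (q + 1)`: counting elements by their orders
-/

set_option autoImplicit false
set_option linter.unusedSectionVars false
set_option linter.style.haveILetI false

namespace CfsgLib.PGLNse

open CfsgLib.SameOrder

variable {G : Type*} [Group G] [Finite G]

/-- The order of the group and its parameters. -/
structure Base (G : Type*) [Group G] (p f q : ℕ) : Prop where
  hp : p.Prime
  hp2 : p ≠ 2
  hf : 0 < f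
  hq : q = p ^ f
  h3 : 3 < q
  card : Nat.card G = q * ((q - 1) * (q + 1))

variable {p f q : ℕ} (B : Base G p f q)
include B

omit [Finite G] in
theorem Base.p_dvd_q : p ∣ q := B.hq ▸ dvd_pow_self p B.hf.ne'

omit [Finite G] in
theorem Base.q_odd : Odd q := B.hq ▸ (B.hp.odd_of_ne_two B.hp2).pow

omit [Finite G] in
theorem Base.not_dvd : ¬ p ∣ (q - 1) * (q + 1) := by
  intro h
  have h3 := B.h3
  rcases B.hp.dvd_mul.mp h with h' | h'
  · have := Nat.dvd_sub B.p_dvd_q h'
    rw [Nat.sub_sub_self (by omega)] at this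
    exact B.hp.one_lt.not_ge (Nat.le_of_dvd one_pos this)
  · have := Nat.dvd_sub h' B.p_dvd_q
    rw [Nat.add_sub_cancel_left] at this
    exact B.hp.one_lt.not_ge (Nat.le_of_dvd one_pos this)

theorem Base.sylow_card [Fact p.Prime] (P : Sylow p G) : Nat.card (P : Subgroup G) = q := by
  have hne : (q - 1) * (q + 1) ≠ 0 := fun e => B.not_dvd (e ▸ dvd_zero p)
  rw [P.card_eq_multiplicity, B.card, Nat.factorization_mul (by rw [B.hq]; exact pow_ne_zero _ B.hp.ne_zero) hne,
    Finsupp.add_apply, Nat.factorization_eq_zero_of_not_dvd B.not_dvd, add_zero, B.hq,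
    Nat.Prime.factorization_pow B.hp, Finsupp.single_eq_same]

theorem Base.exists_order_p : ∃ g : G, orderOf g = p := by
  haveI := Fact.mk B.hp
  exact exists_prime_orderOf_dvd_card' p (B.card ▸ dvd_mul_of_dvd_left B.p_dvd_q _)

/-- An element of order `p` commutes with no element of order `n` prime to `p`. -/
theorem Base.not_commute (hsing : ∀ g : G, p ∣ orderOf g → orderOf g = p) {u g : G} (hu : orderOf u = p)
    (hg : ¬ p ∣ orderOf g) (hc : Commute u g) : g = 1 := by
  have hco : Nat.Coprime (orderOf u) (orderOf g) := hu ▸ (B.hp.coprime_iff_not_dvd.mpr hg)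
  have h := hc.orderOf_mul_eq_mul_orderOf_of_coprime hco
  have h' := hsing (u * g) (by rw [h, hu]; exact dvd_mul_right p _)
  rw [h, hu] at h'
  exact orderOf_eq_one_iff.mp (Nat.eq_of_mul_eq_mul_left B.hp.pos (h'.trans (mul_one p).symm))

/-- The Sylow `p`-subgroup permutes the elements of order `n` freely. -/
theorem Base.dvd_cn (hsing : ∀ g : G, p ∣ orderOf g → orderOf g = p) {n : ℕ} (h1 : n ≠ 1) (hnp : n ≠ p) :
    q ∣ cn G n := by
  haveI := Fact.mk B.hp
  rcases (cn G n).eq_zero_or_pos with h0 | hpos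
  · rw [h0]; exact dvd_zero q
  obtain ⟨g₀, hg₀⟩ := cn_pos_iff.mp hpos
  have hn : ¬ p ∣ n := fun h => hnp (hg₀ ▸ hsing g₀ (hg₀.symm ▸ h))
  obtain ⟨U⟩ := (inferInstance : Nonempty (Sylow p G))
  letI : MulAction (U : Subgroup G) {g : G // orderOf g = n} :=
    { smul := fun u g => ⟨(u : G) * g.1 * (u : G)⁻¹,
        ((MulAut.conj (u : G)).orderOf_eq g.1).trans g.2⟩
      one_smul := fun g => Subtype.ext (by show (1 : G) * g.1 * (1 : G)⁻¹ = g.1; simp)
      mul_smul := fun u v g => Subtype.ext (by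
        show ((u : G) * v) * g.1 * ((u : G) * v)⁻¹ = u * ((v : G) * g.1 * (v : G)⁻¹) * (u : G)⁻¹
        group) }
  have hfree : ∀ g : {g : G // orderOf g = n}, MulAction.stabilizer (U : Subgroup G) g = ⊥ := by
    intro g
    rw [Subgroup.eq_bot_iff_forall]
    intro u hu
    by_contra hu1
    obtain ⟨j, hj⟩ := IsPGroup.iff_orderOf.mp U.2 u
    have hj0 : j ≠ 0 := fun e => hu1 (orderOf_eq_one_iff.mp (by rw [hj, e, pow_zero]))
    have huo : orderOf (u : G) = p := hsing _ (by
      rw [Subgroup.orderOf_coe, hj]; exact dvd_pow_self p hj0)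
    have hc : Commute (u : G) g.1 := mul_inv_eq_iff_eq_mul.mp (congrArg Subtype.val hu)
    exact h1 (by rw [← g.2, B.not_commute hsing huo (g.2.symm ▸ hn) hc, orderOf_one])
  rw [cn, Nat.card_congr (MulAction.selfEquivOrbitsQuotientProd hfree), Nat.card_prod, B.sylow_card U]
  exact dvd_mul_left q _

/-- The number of `p'`-elements, from the divisibility of the counts. -/
theorem Base.regular_count (hdiv : ∀ n, n ≠ 1 → n ≠ p → q ∣ cn G n) :
    Nat.card {g : G // g ^ ((q - 1) * (q + 1)) = 1} = (q - 1) * ((q - 1) * (q + 1)) := by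
  classical
  have := Fintype.ofFinite G
  have h3 := B.h3
  set M := (q - 1) * (q + 1) with hM
  have hM0 : M ≠ 0 := fun e => B.not_dvd (by rw [← hM, e]; exact dvd_zero p)
  have hdvd := Cfsg.Agent.S3993.result (G := G) M (B.card ▸ dvd_mul_left M q)
  obtain ⟨j, hj⟩ := hdvd
  have hsum : Nat.card {g : G // g ^ M = 1} = ∑ k ∈ M.divisors, cn G k := by
    rw [Nat.card_eq_fintype_card, Fintype.card_subtype]
    have key := sum_card_orderOf_eq_card_pow_eq_one (G := G) hM0
    refine Eq.trans ?_ ((key.symm).trans ?_)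
    · congr 1
    refine Finset.sum_congr rfl fun k _ => ?_
    rw [cn, Nat.card_eq_fintype_card, Fintype.card_subtype]
  have h1 : cn G 1 = 1 :=
    Nat.card_eq_one_iff_exists.mpr ⟨⟨1, orderOf_one⟩, fun g => Subtype.ext (orderOf_eq_one_iff.mp g.2)⟩
  rw [← Finset.add_sum_erase _ _ (Nat.one_mem_divisors.mpr hM0), h1] at hsum
  obtain ⟨i, hi⟩ : q ∣ ∑ k ∈ M.divisors.erase 1, cn G k := Finset.dvd_sum fun k hk => by
    obtain ⟨hk1, hk⟩ := Finset.mem_erase.mp hk
    exact hdiv k hk1 fun e => B.not_dvd (hM ▸ e ▸ (Nat.mem_divisors.mp hk).1)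
  obtain ⟨u, hu⟩ := B.exists_order_p
  have hlt : Nat.card {g : G // g ^ M = 1} < Nat.card G := by
    rw [Nat.card_eq_fintype_card, Nat.card_eq_fintype_card]
    exact Fintype.card_subtype_lt (x := u) fun h => B.not_dvd (hM ▸ hu ▸ orderOf_dvd_of_pow_eq_one h)
  rw [B.card, ← hM, hj, mul_comm q M] at hlt
  have hjq : j < q := Nat.lt_of_mul_lt_mul_left hlt
  rw [hj] at hsum ⊢
  rw [hi] at hsum
  -- `M ≡ -1 (mod q)`
  have hj1 : j + 1 = q := by
    have hMZ : ((M : ℕ) : ℤ) = (q : ℤ) * q - 1 := by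
      rw [hM]
      push_cast [Nat.cast_sub (by omega : 1 ≤ q)]
      ring
    have hsZ : (M : ℤ) * j = 1 + (q : ℤ) * i := by exact_mod_cast hsum
    rw [hMZ] at hsZ
    obtain ⟨c, hc⟩ : (q : ℤ) ∣ (j : ℤ) + 1 := ⟨(q : ℤ) * j - i, by linear_combination -hsZ⟩
    have hjqZ : (j : ℤ) + 1 ≤ q := by exact_mod_cast hjq
    have hqpos : (0 : ℤ) < q := by exact_mod_cast (by omega : 0 < q)
    have hc1 : c = 1 := by
      rcases lt_trichotomy c 1 with h | h | h
      · nlinarith
      · exact h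
      · nlinarith
    rw [hc1, mul_one] at hc
    exact_mod_cast hc
  rw [mul_comm M j, show j = q - 1 by omega]

/-- The number of elements of order divisible by `p`. -/
theorem Base.singular_count (hdiv : ∀ n, n ≠ 1 → n ≠ p → q ∣ cn G n) :
    Nat.card {g : G // ¬ g ^ ((q - 1) * (q + 1)) = 1} = (q - 1) * (q + 1) := by
  classical
  have := Fintype.ofFinite G
  have h3 := B.h3
  have h := B.regular_count hdiv
  have h' := B.card
  rw [Nat.card_eq_fintype_card] at h h' ⊢
  rw [Fintype.card_subtype_compl, h, h', ← Nat.sub_mul, show q - (q - 1) = 1 by omega, one_mul]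

omit [Finite G] in
theorem Base.singular_of_order {g : G} (hg : orderOf g = p) : ¬ g ^ ((q - 1) * (q + 1)) = 1 := fun h =>
  B.not_dvd (hg ▸ orderOf_dvd_of_pow_eq_one h)

theorem Base.order_dvd_of_not_dvd {g : G} (hg : ¬ p ∣ orderOf g) : g ^ ((q - 1) * (q + 1)) = 1 :=
  orderOf_dvd_iff_pow_eq_one.mp
    ((((B.hp.coprime_iff_not_dvd.mpr hg).symm.pow_right f).dvd_of_dvd_mul_left
      (by rw [← B.hq, ← B.card]; exact orderOf_dvd_natCard g)))

/-- In a group with all elements of order divisible by `p` of order `p`: the values of the counts. -/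
theorem Base.values (hsing : ∀ g : G, p ∣ orderOf g → orderOf g = p) (n : ℕ) :
    (n = 1 ∧ cn G n = 1) ∨ (n = p ∧ cn G n = (q - 1) * (q + 1)) ∨ q ∣ cn G n := by
  rcases eq_or_ne n 1 with rfl | h1
  · exact Or.inl ⟨rfl, Nat.card_eq_one_iff_exists.mpr
      ⟨⟨1, orderOf_one⟩, fun g => Subtype.ext (orderOf_eq_one_iff.mp g.2)⟩⟩
  rcases eq_or_ne n p with rfl | hnp
  · refine Or.inr (Or.inl ⟨rfl, ?_⟩)
    rw [← B.singular_count fun k hk hk' => B.dvd_cn hsing hk hk', cn]
    exact Nat.card_congr (Equiv.subtypeEquivRight fun g =>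
      ⟨B.singular_of_order, fun h => hsing g (by_contra fun hg => h (B.order_dvd_of_not_dvd hg))⟩)
  · exact Or.inr (Or.inr (B.dvd_cn hsing h1 hnp))

end CfsgLib.PGLNse
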