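import Cfsg.Agent.Lib.PGLNse.Sharp
import Cfsg.Agent.Lib.Spectrum.PGLTwo
import Cfsg.Agent.Lib.SL2.PGLMax.Embed
import Cfsg.Agent.Lib.Classical.Card

/-!
# The counts of `PGL(2, q)`
-/

set_option autoImplicit false
set_option linter.unusedSectionVars false
set_option linter.style.haveILetI false

namespace CfsgLib.PGLNse

open Matrix CfsgLib.SameOrder

variable {F : Type*} [Field F] [Finite F]

local notation "M2" => Matrix (Fin 2) (Fin 2) F
local notation "PGL" => GL (Fin 2) F ⧸ Subgroup.center (GL (Fin 2) F)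

theorem card_model : Nat.card PGL = Nat.card F * ((Nat.card F - 1) * (Nat.card F + 1)) :=
  CfsgLib.SL2.PGLMax.card_pgl

theorem exists_base (hodd : Odd (Nat.card F)) (h3 : 3 < Nat.card F) :
    ∃ (p f : ℕ), CharP F p ∧ Base PGL p f (Nat.card F) := by
  haveI := Fintype.ofFinite F
  obtain ⟨p, hchar⟩ := CharP.exists F
  haveI := hchar
  obtain ⟨f, hp, hcard⟩ := FiniteField.card F p
  rw [← Nat.card_eq_fintype_card] at hcard
  refine ⟨p, f, hchar, hp, fun h2 => ?_, f.2, hcard, h3, card_model⟩
  rw [hcard, h2] at hodd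
  exact (Nat.not_even_iff_odd.mpr hodd) (even_iff_two_dvd.mpr (dvd_pow_self 2 f.2.ne'))

theorem model_sing {p f : ℕ} [CharP F p] (B : Base PGL p f (Nat.card F)) (x : PGL) (hx : p ∣ orderOf x) :
    orderOf x = p := by
  haveI := Fact.mk B.hp
  rcases CfsgLib.SpectrumPGL.pow_cases p x with h | h | h
  · exact ((Nat.dvd_prime B.hp).mp (orderOf_dvd_of_pow_eq_one h)).resolve_left fun e => by
      rw [e] at hx
      exact B.hp.ne_one (Nat.dvd_one.mp hx)
  · exact absurd ((hx.trans (orderOf_dvd_of_pow_eq_one h)).mul_right _) B.not_dvd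
  · exact absurd ((hx.trans (orderOf_dvd_of_pow_eq_one h)).mul_left _) B.not_dvd

theorem two_ne_zero_of_odd (hodd : Odd (Nat.card F)) : (2 : F) ≠ 0 := by
  haveI := Fintype.ofFinite F
  intro h2
  have : ringChar F = 2 := by
    haveI : CharP F 2 := CharTwo.of_one_ne_zero_of_two_eq_zero one_ne_zero h2
    exact ringChar.eq F 2
  have h := FiniteField.even_card_of_char_two this
  rw [Nat.card_eq_fintype_card, Nat.odd_iff] at hodd
  omega

/-- An element is an involution exactly if it comes from a traceless matrix. -/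
theorem order_two_iff (hodd : Odd (Nat.card F)) (g : GL (Fin 2) F) :
    orderOf (g : PGL) = 2 ↔ (g : M2).trace = 0 := by
  have h2 := two_ne_zero_of_odd hodd
  have hcay := CfsgLib.SL2.cayley (g : M2)
  constructor
  · intro h
    by_contra ht
    have hsq : g * g ∈ Subgroup.center (GL (Fin 2) F) := by
      rw [← QuotientGroup.eq_one_iff, QuotientGroup.mk_mul]
      have hp := pow_orderOf_eq_one (g : PGL)
      rw [h, sq] at hp
      exact hp
    have hns := CfsgLib.SpectrumPGL.scalar_of_mem_center _ hsq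
    have hM : CfsgLib.SL2.NonScalar (g : M2) := fun c hc => by
      have h1 := CfsgLib.SpectrumPGL.mk_eq_one_of_scalar g c hc
      rw [h1, orderOf_one] at h
      omega
    refine hns fun c hc => hM ((g : M2).trace⁻¹ * (c + (g : M2).det)) ?_
    rw [Units.val_mul, hcay, sub_eq_iff_eq_add, ← add_smul] at hc
    rw [mul_smul, ← hc, smul_smul, inv_mul_cancel₀ ht, one_smul]
  · intro ht
    refine orderOf_eq_prime ?_ ?_
    · rw [sq, ← QuotientGroup.mk_mul]
      refine CfsgLib.SpectrumPGL.mk_eq_one_of_scalar _ (-(g : M2).det) ?_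
      rw [Units.val_mul, hcay, ht, zero_smul, zero_sub, neg_smul]
    · intro h1
      refine CfsgLib.SpectrumPGL.scalar_of_mem_center g ((QuotientGroup.eq_one_iff _).mp h1) fun c hc => ?_
      have hd : (g : M2).det ≠ 0 := ((Matrix.isUnit_iff_isUnit_det _).mp g.isUnit).ne_zero
      rw [hc, Matrix.trace_fin_two] at ht
      simp only [Matrix.smul_apply, Matrix.one_apply_eq, smul_eq_mul, mul_one] at ht
      have hc0 : c = 0 := by
        rw [← two_mul] at ht
        exact (mul_eq_zero.mp ht).resolve_left h2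
      rw [hc, hc0, zero_smul] at hd
      simp at hd

/-- The number of solutions of `a ^ 2 + b c = 0`. -/
theorem card_quadric : Nat.card {v : F × F × F // v.1 * v.1 + v.2.1 * v.2.2 = 0} = Nat.card F * Nat.card F := by
  classical
  haveI := Fintype.ofFinite F
  rw [← Nat.card_prod]
  refine Nat.card_congr ⟨fun v => if v.1.2.1 = 0 then (v.1.2.2, 0) else (v.1.1, v.1.2.1),
    fun w => if h : w.2 = 0 then ⟨(0, 0, w.1), by simp⟩ else ⟨(w.1, w.2, -(w.1 * w.1) / w.2), by
      show w.1 * w.1 + w.2 * (-(w.1 * w.1) / w.2) = 0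
      field_simp
      ring⟩, ?_, ?_⟩
  · rintro ⟨⟨a, b, c⟩, hv⟩
    by_cases hb : b = 0
    · have ha : a = 0 := by
        simp only [hb, zero_mul, add_zero] at hv
        exact mul_self_eq_zero.mp hv
      simp [hb, ha]
    · have hc : -(a * a) / b = c := by
        field_simp
        simp only at hv
        linear_combination -hv
      simp [hb, hc]
  · rintro ⟨a, b⟩
    by_cases hb : b = 0 <;> simp [hb]

theorem model_invol (hodd : Odd (Nat.card F)) : cn PGL 2 = Nat.card F * Nat.card F := by
  classical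
  haveI := Fintype.ofFinite F
  have hq : 2 ≤ Nat.card F := by rw [Nat.card_eq_fintype_card]; exact Fintype.one_lt_card
  let e : {v : F × F × F // ¬ v.1 * v.1 + v.2.1 * v.2.2 = 0} ≃ {g : GL (Fin 2) F // (g : M2).trace = 0} :=
    { toFun := fun v => ⟨GeneralLinearGroup.mkOfDetNeZero !![v.1.1, v.1.2.1; v.1.2.2, -v.1.1] (by
        rw [Matrix.det_fin_two_of]
        intro h
        exact v.2 (by linear_combination -h)), by
        simp [GeneralLinearGroup.mkOfDetNeZero, Matrix.trace_fin_two]⟩
      invFun := fun g => ⟨((g.1 : M2) 0 0, (g.1 : M2) 0 1, (g.1 : M2) 1 0), by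
        have hd : (g.1 : M2).det ≠ 0 := ((Matrix.isUnit_iff_isUnit_det _).mp g.1.isUnit).ne_zero
        rw [Matrix.det_fin_two] at hd
        have ht := g.2
        rw [Matrix.trace_fin_two] at ht
        intro h
        exact hd (by linear_combination (g.1 : M2) 0 0 * ht - h)⟩
      left_inv := fun v => Subtype.ext (by simp [GeneralLinearGroup.mkOfDetNeZero])
      right_inv := fun g => by
        have ht := g.2
        rw [Matrix.trace_fin_two] at ht
        refine Subtype.ext (Units.ext ?_)
        ext i j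
        fin_cases i <;> fin_cases j <;> simp [GeneralLinearGroup.mkOfDetNeZero]
        linear_combination -ht }
  have h1 : Nat.card {g : GL (Fin 2) F // (g : M2).trace = 0} = (Nat.card F - 1) * cn PGL 2 := by
    have h := Nat.card_congr (QuotientGroup.preimageMkEquivSubgroupProdSet (Subgroup.center (GL (Fin 2) F))
      {x : PGL | orderOf x = 2})
    rw [Nat.card_prod, CfsgLib.Classical.card_center_GL, Nat.card_units] at h
    rw [cn]
    refine Eq.trans (Nat.card_congr (Equiv.subtypeEquivRight fun g => ?_)) h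
    exact (order_two_iff hodd g).symm
  rw [← Nat.card_congr e, Nat.card_eq_fintype_card, Fintype.card_subtype_compl, ← Nat.card_eq_fintype_card,
    ← Nat.card_eq_fintype_card, card_quadric, Nat.card_prod, Nat.card_prod] at h1
  refine Nat.eq_of_mul_eq_mul_left (show 0 < Nat.card F - 1 by omega) (h1.symm.trans ?_)
  rw [Nat.sub_mul, one_mul]

/-- **A group with the order and the counts of `PGL(2, q)`.** -/
theorem iso_of_nse {G : Type*} [Group G] [Finite G] (hodd : Odd (Nat.card F)) (h3 : 3 < Nat.card F)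
    (hcard : Nat.card G = Nat.card PGL)
    (hnse : {c : ℕ | 0 < c ∧ ∃ n : ℕ, c = Nat.card {g : G // orderOf g = n}} =
      {c : ℕ | 0 < c ∧ ∃ n : ℕ, c = Nat.card {g : PGL // orderOf g = n}}) :
    ∃ (K : Type) (_ : Field K) (_ : Fintype K), Fintype.card K = Nat.card F ∧
      Nonempty (G ≃* Matrix.ProjGenLinGroup (Fin 2) K) := by
  obtain ⟨p, f, hchar, B⟩ := exists_base hodd h3
  haveI := hchar
  have BG : Base G p f (Nat.card F) := ⟨B.hp, B.hp2, B.hf, B.hq, B.h3, hcard.trans B.card⟩
  refine Hyp.exists_iso (⟨BG, fun n hn => ?_, ?_⟩ : Hyp G p f (Nat.card F))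
  · obtain ⟨-, m, hm⟩ := (Set.ext_iff.mp hnse (cn G n)).mp ⟨hn, n, rfl⟩
    rcases B.values (fun x hx => model_sing B x hx) m with ⟨-, h⟩ | ⟨-, h⟩ | h
    · exact Or.inl (hm.trans h)
    · exact Or.inr (Or.inl (hm.trans h))
    · exact Or.inr (Or.inr (hm.symm ▸ h))
  · have hpos : 0 < Nat.card F * Nat.card F := Nat.mul_pos (by omega) (by omega)
    obtain ⟨-, n, hn⟩ := (Set.ext_iff.mp hnse (Nat.card F * Nat.card F)).mpr ⟨hpos, 2, (model_invol hodd).symm⟩
    have hodd2 : Odd (Nat.card F * Nat.card F) := hodd.mul hodd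
    rcases Nat.lt_or_ge n 3 with hlt | hge
    · interval_cases n
      · exfalso
        obtain ⟨g, hg⟩ := cn_pos_iff.mp (show 0 < Nat.card {g : G // orderOf g = 0} by rw [← hn]; exact hpos)
        exact (orderOf_pos g).ne' hg
      · exfalso
        have h1 : cn G 1 = 1 :=
          Nat.card_eq_one_iff_exists.mpr ⟨⟨1, orderOf_one⟩, fun g => Subtype.ext (orderOf_eq_one_iff.mp g.2)⟩
        have h2 : Nat.card F * Nat.card F = 1 := hn.trans h1
        have := Nat.le_mul_of_pos_right (Nat.card F) (show 0 < Nat.card F by omega)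
        omega
      · exact hn.symm
    · exfalso
      have he := (Nat.totient_even hge).two_dvd.trans (totient_dvd_cn (G := G) n)
      rw [cn, ← hn] at he
      exact (Nat.not_even_iff_odd.mpr hodd2) (even_iff_two_dvd.mpr he)

end CfsgLib.PGLNse
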