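import Cfsg.Agent.Lib.PGLNse.Structure
import Cfsg.Agent.Lib.Perm.SharplyThree
import Mathlib.Data.Fintype.CardEmbedding

/-!
# Counting involutions in the action on the Sylow subgroups
-/

set_option autoImplicit false
set_option linter.unusedSectionVars false
set_option linter.style.haveILetI false

namespace CfsgLib.PGLNse

open CfsgLib.SameOrder MulAction

universe u

variable {G : Type u} [Group G] [Finite G] {p f q : ℕ} (H : Hyp G p f q)
include H

/-- The triple of three distinct Sylow subgroups. -/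
def triple {α : Type*} {a b c : α} (hab : a ≠ b) (hac : a ≠ c) (hbc : b ≠ c) : Fin 3 ↪ α :=
  ⟨![a, b, c], by
    intro i j hij
    fin_cases i <;> fin_cases j <;> first | rfl | (exfalso; simp at hij; tauto)⟩

theorem Hyp.exists_third {a b : Sylow p G} (hab : a ≠ b) : ∃ c, c ≠ a ∧ c ≠ b := by
  classical
  haveI := Fintype.ofFinite (Sylow p G)
  obtain ⟨c, hc⟩ : ∃ c, c ∈ (Finset.univ.erase a).erase b := Finset.card_pos.mp (by
    rw [Finset.card_erase_of_mem (by simp [hab.symm]), Finset.card_erase_of_mem (Finset.mem_univ _),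
      Finset.card_univ, ← Nat.card_eq_fintype_card, H.number]
    have := H.h3
    omega)
  simp only [Finset.mem_erase, Finset.mem_univ, and_true, ne_eq] at hc
  exact ⟨c, hc.2, hc.1⟩

theorem Hyp.card_triples : Nat.card (Fin 3 ↪ Sylow p G) = Nat.card G := by
  classical
  haveI := Fintype.ofFinite (Sylow p G)
  rw [Nat.card_eq_fintype_card, Fintype.card_embedding_eq, Fintype.card_fin, ← Nat.card_eq_fintype_card, H.number,
    H.card]
  have := H.h3
  simp only [Nat.descFactorial_succ, Nat.descFactorial_zero]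
  rw [show q + 1 - 2 = q - 1 by omega, show q + 1 - 1 = q by omega, Nat.sub_zero]
  ring

theorem Hyp.eq_of_three {g g' : G} {a b c : Sylow p G} (hab : a ≠ b) (hbc : b ≠ c) (hac : a ≠ c)
    (ha : g • a = g' • a) (hb : g • b = g' • b) (hc : g • c = g' • c) : g = g' := by
  refine (inv_mul_eq_one.1 (H.free hab hbc hac ?_ ?_ ?_)).symm
  · rw [mul_smul, ha, inv_smul_smul]
  · rw [mul_smul, hb, inv_smul_smul]
  · rw [mul_smul, hc, inv_smul_smul]

theorem Hyp.three_trans (t t' : Fin 3 ↪ Sylow p G) : ∃ g : G, g • t = t' := by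
  have hinj : Function.Injective fun g : G => g • t := fun g g' h =>
    H.eq_of_three (t.injective.ne (show (0 : Fin 3) ≠ 1 by decide)) (t.injective.ne (show (1 : Fin 3) ≠ 2 by decide))
      (t.injective.ne (show (0 : Fin 3) ≠ 2 by decide)) (DFunLike.congr_fun h 0) (DFunLike.congr_fun h 1)
      (DFunLike.congr_fun h 2)
  exact ((Nat.bijective_iff_injective_and_card _).mpr ⟨hinj, H.card_triples.symm⟩).2 t'

/-- For two Sylow subgroups there is exactly one involution fixing both. -/
theorem Hyp.exists_involution {a b : Sylow p G} (hab : a ≠ b) :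
    ∃ t : G, orderOf t = 2 ∧ t • a = a ∧ t • b = b ∧
      ∀ t' : G, orderOf t' = 2 → t' • a = a → t' • b = b → t' = t := by
  classical
  haveI := Fact.mk H.hp
  haveI : Fact (Nat.Prime 2) := ⟨Nat.prime_two⟩
  obtain ⟨c, hca, hcb⟩ := H.exists_third hab
  let K : Subgroup G := stabilizer G a ⊓ stabilizer G b
  let F : K → {S : Sylow p G // S ≠ a ∧ S ≠ b} := fun g => ⟨(g : G) • c,
    fun e => hca (smul_left_cancel (g : G) (e.trans (mem_stabilizer_iff.mp g.2.1).symm)),
    fun e => hcb (smul_left_cancel (g : G) (e.trans (mem_stabilizer_iff.mp g.2.2).symm))⟩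
  have hF : Function.Bijective F := by
    refine ⟨fun g g' e => Subtype.ext ?_, fun S => ?_⟩
    · exact H.eq_of_three hab hcb.symm hca.symm
        ((mem_stabilizer_iff.mp g.2.1).trans (mem_stabilizer_iff.mp g'.2.1).symm)
        ((mem_stabilizer_iff.mp g.2.2).trans (mem_stabilizer_iff.mp g'.2.2).symm) (congrArg Subtype.val e)
    · obtain ⟨g, hg⟩ := H.three_trans (triple hab hca.symm hcb.symm) (triple hab S.2.1.symm S.2.2.symm)
      exact ⟨⟨g, mem_stabilizer_iff.mpr (DFunLike.congr_fun hg 0), mem_stabilizer_iff.mpr (DFunLike.congr_fun hg 1)⟩,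
        Subtype.ext (DFunLike.congr_fun hg 2)⟩
  have hK : Nat.card K = q - 1 := by
    haveI := Fintype.ofFinite (Sylow p G)
    rw [Nat.card_congr (Equiv.ofBijective F hF), Nat.card_eq_fintype_card, Fintype.card_subtype,
      show (Finset.univ.filter fun S : Sylow p G => S ≠ a ∧ S ≠ b) = (Finset.univ.erase a).erase b by
        ext S; simp [and_comm],
      Finset.card_erase_of_mem (by simp [hab.symm]), Finset.card_erase_of_mem (Finset.mem_univ _), Finset.card_univ,
      ← Nat.card_eq_fintype_card, H.number]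
    omega
  obtain ⟨⟨t, htK⟩, ht⟩ := exists_prime_orderOf_dvd_card' (G := K) 2 (by
    obtain ⟨k, hk⟩ := H.q_odd
    exact ⟨k, by rw [hK]; omega⟩)
  rw [Subgroup.orderOf_mk] at ht
  have hta : t • a = a := mem_stabilizer_iff.mp htK.1
  have htb : t • b = b := mem_stabilizer_iff.mp htK.2
  refine ⟨t, ht, hta, htb, fun t' ht' ha' hb' => ?_⟩
  have hmem : ∀ g : G, g • a = a → ∀ x ∈ (a : Subgroup G), g * x * g⁻¹ ∈ (a : Subgroup G) := fun g hg x hx =>
    (Subgroup.mem_normalizer_iff.mp (Sylow.smul_eq_iff_mem_normalizer.mp hg) x).mp hx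
  have h3 := H.h3
  haveI : Nontrivial (a : Subgroup G) := Finite.one_lt_card_iff_nontrivial.mp (by rw [H.sylow_card a]; omega)
  obtain ⟨⟨x, hx⟩, hx1⟩ := exists_ne (1 : (a : Subgroup G))
  have hx1' : x ≠ 1 := fun e => hx1 (Subtype.ext e)
  have htt : t' * t' = 1 := by rw [← sq, ← ht', pow_orderOf_eq_one]
  have hti : t'⁻¹ = t' := inv_eq_of_mul_eq_one_right htt
  have hcomm : (t' * t) * x = x * (t' * t) := by
    refine mul_inv_eq_iff_eq_mul.mp ?_
    rw [show t' * t * x * (t' * t)⁻¹ = t' * (t * x * t⁻¹) * t'⁻¹ by group, H.invert ht (hmem t hta) hx,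
      H.invert ht' (hmem t' ha') (inv_mem hx), inv_inv]
  have hmema : t' * t ∈ (a : Subgroup G) := by
    rw [← H.cent_eq a hx hx1', Subgroup.mem_centralizer_singleton_iff]
    exact hcomm
  have h1 := H.eq_one_of_fix hab hmema (by rw [mul_smul, show t • b = b from htb, hb'])
  exact ((inv_eq_of_mul_eq_one_right h1).symm.trans hti).symm

/-- The other fixed point of an involution. -/
theorem Hyp.exists_fixed_ne {w : G} (hw : orderOf w = 2) {a : Sylow p G} (ha : w • a = a) :
    ∃ b, b ≠ a ∧ w • b = b := by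
  classical
  haveI : Fact (Nat.Prime 2) := ⟨Nat.prime_two⟩
  haveI := Fintype.ofFinite (Sylow p G)
  by_contra hne
  push Not at hne
  let F : Function.End (Sylow p G) := fun S => w • S
  have hF : F ^ 2 ^ 1 = 1 := by
    funext S
    show w • w • S = S
    rw [← mul_smul, ← sq, ← hw, pow_orderOf_eq_one, one_smul]
  have h := Equiv.Perm.card_fixedPoints_modEq hF
  rw [← Nat.card_eq_fintype_card, H.number, ← Nat.card_eq_fintype_card,
    show Nat.card (Function.fixedPoints F) = 1 from Nat.card_eq_one_iff_exists.mpr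
      ⟨⟨a, ha⟩, fun S => Subtype.ext (by_contra fun e => hne S.1 e S.2)⟩] at h
  obtain ⟨k, hk⟩ := H.q_odd
  unfold Nat.ModEq at h
  omega

/-- An element exchanging two Sylow subgroups is an involution. -/
theorem Hyp.swap_invol {g : G} {a : Sylow p G} (h1 : g • a ≠ a) (h2 : g • g • a = a) : g * g = 1 := by
  classical
  haveI := Fintype.ofFinite G
  haveI := Fintype.ofFinite (Sylow p G)
  set S := {x : G × Sylow p G // x.1 • x.2 ≠ x.2 ∧ x.1 • x.1 • x.2 = x.2} with hS
  set I := {w : G // orderOf w = 2} with hI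
  let cf : ∀ x : S, Sylow p G := fun x => (H.exists_third x.2.1.symm).choose
  have hcf : ∀ x : S, cf x ≠ x.1.2 ∧ cf x ≠ x.1.1 • x.1.2 := fun x => (H.exists_third x.2.1.symm).choose_spec
  let θ : Sylow p G → Sylow p G → Sylow p G := fun a b =>
    if h : a ≠ b then (H.exists_third h).choose else a
  have hθ : ∀ x : S, θ x.1.2 (x.1.1 • x.1.2) = cf x := fun x => dif_pos x.2.1.symm
  have hne : ∀ x : S, x.1.1 • cf x ≠ x.1.2 ∧ x.1.1 • cf x ≠ x.1.1 • x.1.2 := fun x =>
    ⟨fun e => (hcf x).2 (smul_left_cancel x.1.1 (e.trans x.2.2.symm)),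
      fun e => (hcf x).1 (smul_left_cancel x.1.1 e)⟩
  let e : S → (Fin 3 ↪ Sylow p G) := fun x => triple x.2.1.symm (hne x).1.symm (hne x).2.symm
  have he : Function.Injective e := by
    intro x y hxy
    have h0 : x.1.2 = y.1.2 := DFunLike.congr_fun hxy 0
    have h1' : x.1.1 • x.1.2 = y.1.1 • y.1.2 := DFunLike.congr_fun hxy 1
    have h2' : x.1.1 • cf x = y.1.1 • cf y := DFunLike.congr_fun hxy 2
    have hc : cf x = cf y := by rw [← hθ x, ← hθ y, h0, show x.1.1 • y.1.2 = y.1.1 • y.1.2 from h0 ▸ h1']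
    refine Subtype.ext (Prod.ext ?_ h0)
    refine H.eq_of_three x.2.1.symm (hcf x).2.symm (hcf x).1.symm (h1'.trans (by rw [h0])) ?_
      (h2'.trans (by rw [hc]))
    rw [x.2.2, h1', y.2.2, h0]
  -- the moved pairs
  set T := {x : I × Sylow p G // x.1.1 • x.2 = x.2} with hT
  have hTc : Nat.card T = (q + 1) * q := by
    have hex : ∀ y : {y : Sylow p G × Sylow p G // y.1 ≠ y.2}, ∃ t : I, t.1 • y.1.1 = y.1.1 ∧ t.1 • y.1.2 = y.1.2 :=
      fun y => by
        obtain ⟨t, ht, hta, htb, -⟩ := H.exists_involution y.2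
        exact ⟨⟨t, ht⟩, hta, htb⟩
    choose τ hτa hτb using hex
    let Φ : {y : Sylow p G × Sylow p G // y.1 ≠ y.2} → T := fun y => ⟨(τ y, y.1.1), hτa y⟩
    have hΦ : Function.Bijective Φ := by
      refine ⟨fun y z e => ?_, fun x => ?_⟩
      · have e' : (τ y, y.1.1) = (τ z, z.1.1) := congrArg Subtype.val e
        obtain ⟨et, ea⟩ := Prod.mk.inj e'
        refine Subtype.ext (Prod.ext ea ?_)
        by_contra hb
        have hab' : y.1.1 ≠ z.1.2 := fun e'' => z.2 (ea.symm.trans e'')
        have := H.free y.2 hb hab' (hτa y) (hτb y) (by rw [et]; exact hτb z)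
        have h2' := (τ y).2
        rw [this, orderOf_one] at h2'
        omega
      · obtain ⟨⟨⟨w, hw⟩, a⟩, hwa⟩ := x
        obtain ⟨b, hb, hwb⟩ := H.exists_fixed_ne hw hwa
        obtain ⟨t, -, -, -, hu⟩ := H.exists_involution hb.symm
        refine ⟨⟨(a, b), hb.symm⟩, Subtype.ext (Prod.ext (Subtype.ext ?_) rfl)⟩
        show (τ ⟨(a, b), hb.symm⟩).1 = w
        rw [hu _ (τ _).2 (hτa ⟨(a, b), hb.symm⟩) (hτb ⟨(a, b), hb.symm⟩), hu w hw hwa hwb]
    rw [← Nat.card_congr (Equiv.ofBijective Φ hΦ), Nat.card_eq_fintype_card, Fintype.card_subtype_compl,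
      Fintype.card_prod, show Fintype.card {y : Sylow p G × Sylow p G // y.1 = y.2} = Fintype.card (Sylow p G) from
        Fintype.card_congr ⟨fun y => y.1.1, fun a => ⟨(a, a), rfl⟩, fun y => Subtype.ext (Prod.ext rfl y.2),
          fun a => rfl⟩, ← Nat.card_eq_fintype_card, H.number]
    rw [Nat.add_mul, Nat.one_mul, Nat.add_sub_cancel, mul_comm]
  set M := {x : I × Sylow p G // ¬ x.1.1 • x.2 = x.2} with hM
  have hMc : Nat.card M = Nat.card G := by
    have h3 := H.h3
    rw [Nat.card_eq_fintype_card, Fintype.card_subtype_compl, Fintype.card_prod, ← Nat.card_eq_fintype_card,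
      ← Nat.card_eq_fintype_card (α := Sylow p G), H.number, ← Nat.card_eq_fintype_card (α := T), hTc,
      show Nat.card I = q * q from H.invol, H.card]
    rw [show q * q * (q + 1) = q * (q + 1) * q by ring, show (q + 1) * q = q * (q + 1) * 1 by ring, ← Nat.mul_sub,
      mul_assoc, mul_comm (q - 1)]
  let m : M → S := fun x => ⟨(x.1.1.1, x.1.2), x.2, by
    show x.1.1.1 • x.1.1.1 • x.1.2 = x.1.2
    have hsq := pow_orderOf_eq_one x.1.1.1
    rw [x.1.1.2, sq] at hsq
    rw [← mul_smul, hsq, one_smul]⟩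
  have hm : Function.Injective m := fun x y h => by
    have h' : (x.1.1.1, x.1.2) = (y.1.1.1, y.1.2) := congrArg Subtype.val h
    obtain ⟨k1, k2⟩ := Prod.mk.inj h'
    exact Subtype.ext (Prod.ext (Subtype.ext k1) k2)
  have hcard : Nat.card M = Nat.card S := le_antisymm (Nat.card_le_card_of_injective m hm)
    ((Nat.card_le_card_of_injective e he).trans (le_of_eq (H.card_triples.trans hMc.symm)))
  obtain ⟨⟨⟨⟨w, hw⟩, b⟩, hb⟩, hmx⟩ :=
    ((Nat.bijective_iff_injective_and_card m).mpr ⟨hm, hcard⟩).2 ⟨(g, a), h1, h2⟩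
  have hwg : w = g := congrArg (fun x : S => x.1.1) hmx
  rw [← hwg, ← sq, ← hw, pow_orderOf_eq_one]

/-- The stabiliser of two Sylow subgroups is commutative. -/
theorem Hyp.torus_comm {a b : Sylow p G} (hab : a ≠ b) (g h : G) (ga : g • a = a) (gb : g • b = b)
    (ha : h • a = a) (hb : h • b = b) : g * h = h * g := by
  obtain ⟨c, hca, hcb⟩ := H.exists_third hab
  obtain ⟨w, hw⟩ := H.three_trans (triple hab hca.symm hcb.symm) (triple hab.symm hcb.symm hca.symm)
  have wa : w • a = b := DFunLike.congr_fun hw 0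
  have wb : w • b = a := DFunLike.congr_fun hw 1
  have hall : ∀ k : G, k • a = a → k • b = b → (w * k) * (w * k) = 1 := fun k ka kb => by
    refine H.swap_invol (a := a) ?_ ?_
    · rw [mul_smul, ka, wa]; exact hab.symm
    · simp only [mul_smul, ka, wa, kb, wb]
  have ww : w * w = 1 := by simpa using hall 1 (one_smul _ _) (one_smul _ _)
  have hinv : ∀ k : G, k • a = a → k • b = b → w * k * w = k⁻¹ := fun k ka kb => by
    have := hall k ka kb
    rw [← mul_assoc] at this
    exact eq_inv_of_mul_eq_one_left this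
  have e := hinv (g * h) (by rw [mul_smul, ha, ga]) (by rw [mul_smul, hb, gb])
  rw [show w * (g * h) * w = (w * g * w) * (w * h * w) by
      calc w * (g * h) * w = w * g * 1 * (h * w) := by group
        _ = _ := by rw [← ww]; group, hinv g ga gb, hinv h ha hb, ← mul_inv_rev] at e
  exact (inv_injective e).symm

/-- **The group is `PGL(2, K)`.** -/
theorem Hyp.exists_iso : ∃ (K : Type) (_ : Field K) (_ : Fintype K), Fintype.card K = q ∧
    Nonempty (G ≃* Matrix.ProjGenLinGroup (Fin 2) K) := by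
  classical
  haveI := Fintype.ofFinite (Sylow p G)
  let φ := MulAction.toPermHom G (Sylow p G)
  obtain ⟨a, b, hab⟩ : ∃ a b : Sylow p G, a ≠ b := Fintype.exists_pair_of_one_lt_card (by
    rw [← Nat.card_eq_fintype_card, H.number]; have := H.h3; omega)
  obtain ⟨c, hca, hcb⟩ := H.exists_third hab
  have hinj : Function.Injective φ := by
    rw [injective_iff_map_eq_one]
    intro g hg
    have h : ∀ S : Sylow p G, g • S = S := fun S => congrArg (fun σ : Equiv.Perm (Sylow p G) => σ S) hg
    exact H.free hab hcb.symm hca.symm (h a) (h b) (h c)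
  have h3t : IsMultiplyPretransitive φ.range (Sylow p G) 3 := ⟨fun t t' => by
    obtain ⟨g, hg⟩ := H.three_trans t t'
    exact ⟨⟨φ g, g, rfl⟩, Function.Embedding.ext fun i => DFunLike.congr_fun hg i⟩⟩
  have hsharp : ∀ t : Fin 3 ↪ Sylow p G, stabilizer φ.range t = ⊥ := by
    intro t
    rw [Subgroup.eq_bot_iff_forall]
    rintro ⟨_, g, rfl⟩ hg
    have h := fun i => DFunLike.congr_fun (mem_stabilizer_iff.mp hg) i
    refine Subtype.ext ?_
    show φ g = 1
    rw [H.free (t.injective.ne (show (0 : Fin 3) ≠ 1 by decide)) (t.injective.ne (show (1 : Fin 3) ≠ 2 by decide))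
      (t.injective.ne (show (0 : Fin 3) ≠ 2 by decide)) (h 0) (h 1) (h 2), map_one]
  obtain ⟨K, iK, fK, hK, ⟨e⟩⟩ := Cfsg.Agent.Lib.Perm.SharplyThree.exists_pgl h3t hsharp (by
      rw [← Nat.card_eq_fintype_card, H.number]; have := H.h3; omega) hab hca.symm hcb.symm (by
      rintro ⟨_, g, rfl⟩ ⟨_, h, rfl⟩ ga gb ha hb
      have := H.torus_comm hab g h ga gb ha hb
      exact Subtype.ext ((map_mul φ g h).symm.trans ((congrArg φ this).trans (map_mul φ h g))))
  refine ⟨K, iK, fK, ?_, ⟨(MonoidHom.ofInjective hinj).trans e⟩⟩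
  rw [← Nat.card_eq_fintype_card (α := Sylow p G), H.number] at hK
  omega

end CfsgLib.PGLNse
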