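import Cfsg.Agent.Lib.PGLNse.Basic
import Cfsg.Agent.Lib.Char.Table

/-!
# The counts of `PGL(2, q)` make the group sharply triply transitive on its Sylow subgroups
-/

set_option autoImplicit false
set_option linter.unusedSectionVars false
set_option linter.style.haveILetI false

namespace CfsgLib.PGLNse

open CfsgLib.SameOrder
open scoped Pointwise

universe u

variable {G : Type u} [Group G] [Finite G] {p f q : ℕ}

/-- The counts used. -/
structure Hyp (G : Type u) [Group G] (p f q : ℕ) : Prop extends Base G p f q where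
  vals : ∀ n, 0 < cn G n → cn G n = 1 ∨ cn G n = (q - 1) * (q + 1) ∨ q ∣ cn G n
  invol : cn G 2 = q * q

variable (H : Hyp G p f q)
include H

theorem Hyp.cn_p : cn G p = (q - 1) * (q + 1) := by
  obtain ⟨u, hu⟩ := H.exists_order_p
  have hp := H.hp
  have h := frob (G := G) (m := p) (H.card ▸ dvd_mul_of_dvd_left H.p_dvd_q _)
  rw [hp.divisors, Finset.sum_pair hp.ne_one.symm] at h
  have h1 : cn G 1 = 1 :=
    Nat.card_eq_one_iff_exists.mpr ⟨⟨1, orderOf_one⟩, fun g => Subtype.ext (orderOf_eq_one_iff.mp g.2)⟩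
  rw [h1] at h
  rcases H.vals p (cn_pos_iff.mpr ⟨u, hu⟩) with e | e | e
  · rw [e] at h
    exact absurd ((Nat.prime_dvd_prime_iff_eq hp Nat.prime_two).mp h) H.hp2
  · exact e
  · exact absurd (Nat.dvd_one.mp ((Nat.dvd_add_left (H.p_dvd_q.trans e)).mp h)) hp.ne_one

theorem Hyp.hdiv : ∀ n, n ≠ 1 → n ≠ p → q ∣ cn G n := by
  classical
  have := Fintype.ofFinite G
  intro n hn1 hnp
  rcases (cn G n).eq_zero_or_pos with h0 | hpos
  · rw [h0]; exact dvd_zero q
  have h3 := H.h3
  set M := (q - 1) * (q + 1) with hM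
  have hq : 0 < q := by omega
  have hMpos : 0 < M := Nat.mul_pos (by omega) (by omega)
  have hG : Nat.card G = q * M := H.card
  have hM1 : M ≠ 1 := fun e => by
    have := Nat.le_mul_of_pos_right (q - 1) (by omega : 0 < q + 1)
    omega
  have hone : ∀ k, cn G k = 1 → 0 < cn G k → k = 1 := fun k hk _ => by
    have := totient_dvd_cn (G := G) k
    rw [hk, Nat.dvd_one, Nat.totient_eq_one_iff] at this
    rcases this with e | e
    · exact e
    · rw [e, H.invol] at hk
      have := Nat.le_mul_of_pos_right q hq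
      omega
  rcases H.vals n hpos with e | e | e
  · exact absurd (hone n e hpos) hn1
  swap
  · exact e
  exfalso
  have h1 : cn G 1 = 1 :=
    Nat.card_eq_one_iff_exists.mpr ⟨⟨1, orderOf_one⟩, fun g => Subtype.ext (orderOf_eq_one_iff.mp g.2)⟩
  have hG0 : Nat.card G ≠ 0 := Nat.card_pos.ne'
  have htot : ∑ k ∈ (Nat.card G).divisors, cn G k = Nat.card G := by
    have key := sum_card_orderOf_eq_card_pow_eq_one (G := G) hG0
    refine Eq.trans (Finset.sum_congr rfl fun k _ => ?_) (key.trans ?_)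
    · rw [cn, Nat.card_eq_fintype_card, Fintype.card_subtype]
    · rw [Finset.filter_true_of_mem fun x _ => pow_card_eq_one', Finset.card_univ, Nat.card_eq_fintype_card]
  set N := (Nat.card G).divisors.erase 1 with hNd
  set A := N.filter fun k => cn G k = M with hA
  have hmem : ∀ k, k ≠ 1 → cn G k = M → k ∈ A := fun k hk hk' =>
    Finset.mem_filter.mpr ⟨hNd ▸ Finset.mem_erase.mpr ⟨hk, Nat.mem_divisors.mpr
      ⟨dvd_card_of_cn_pos (hk' ▸ hMpos), hG0⟩⟩, hk'⟩
  have hA2 : 2 ≤ A.card := by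
    rw [← Finset.card_pair hnp]
    exact Finset.card_le_card (Finset.insert_subset_iff.mpr ⟨hmem n hn1 e,
      Finset.singleton_subset_iff.mpr (hmem p H.hp.ne_one H.cn_p)⟩)
  obtain ⟨i, hi⟩ : q ∣ ∑ k ∈ N.filter (fun k => ¬ cn G k = M), cn G k :=
    Finset.dvd_sum fun k hk => by
      obtain ⟨hk', hkM⟩ := Finset.mem_filter.mp hk
      rcases (cn G k).eq_zero_or_pos with h0 | hp'
      · rw [h0]; exact dvd_zero q
      rcases H.vals k hp' with e' | e' | e'
      · exact absurd (hone k e' hp') (Finset.mem_erase.mp (hNd ▸ hk')).1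
      · exact absurd e' hkM
      · exact e'
  have hsplit := Finset.sum_filter_add_sum_filter_not N (fun k => cn G k = M) (cn G)
  rw [hi, Finset.sum_congr rfl (fun k hk => (Finset.mem_filter.mp hk).2), Finset.sum_const, smul_eq_mul] at hsplit
  change A.card * M + q * i = _ at hsplit
  rw [← Finset.add_sum_erase _ _ (Nat.one_mem_divisors.mpr hG0), h1, ← hNd, ← hsplit, hG] at htot
  have hlt : A.card < q := by
    by_contra h
    have := Nat.mul_le_mul_right M (Nat.le_of_not_lt h)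
    omega
  -- modulo `q`, where `M` is `-1`
  have hMZ : (M : ℤ) = (q : ℤ) * q - 1 := by
    rw [hM]
    push_cast [Nat.cast_sub (by omega : 1 ≤ q)]
    ring
  have htZ : 1 + ((A.card : ℤ) * M + (q : ℤ) * i) = (q : ℤ) * M := by exact_mod_cast htot
  rw [hMZ] at htZ
  have hd : (q : ℤ) ∣ (A.card : ℤ) - 1 :=
    ⟨(A.card : ℤ) * q + i - ((q : ℤ) * q - 1), by linear_combination -htZ⟩
  obtain ⟨c, hc⟩ := hd
  have hltZ : (A.card : ℤ) < q := by exact_mod_cast hlt
  have hA2Z : (2 : ℤ) ≤ A.card := by exact_mod_cast hA2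
  have hqZ : (0 : ℤ) < q := by exact_mod_cast hq
  rcases le_or_gt c 0 with h' | h'
  · nlinarith
  · nlinarith

theorem Hyp.hsing : ∀ g : G, p ∣ orderOf g → orderOf g = p := by
  classical
  have := Fintype.ofFinite G
  intro g hg
  have h := H.singular_count H.hdiv
  have h' : Nat.card {x : G // orderOf x = p} = (q - 1) * (q + 1) := H.cn_p
  rw [Nat.card_eq_fintype_card, Fintype.card_subtype] at h h'
  have heq := Finset.eq_of_subset_of_card_le
    (s := Finset.univ.filter fun x : G => orderOf x = p)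
    (t := Finset.univ.filter fun x : G => ¬ x ^ ((q - 1) * (q + 1)) = 1)
    (fun x hx => by
      simp only [Finset.mem_filter, Finset.mem_univ, true_and] at hx ⊢
      exact H.singular_of_order hx) (le_of_eq (h.trans h'.symm))
  have hmem : g ∈ Finset.univ.filter (fun x : G => orderOf x = p) := by
    rw [heq]
    simp only [Finset.mem_filter, Finset.mem_univ, true_and]
    exact fun e => H.not_dvd (hg.trans (orderOf_dvd_of_pow_eq_one e))
  simpa using hmem

theorem Hyp.order_of_mem {P : Sylow p G} {x : G} (hx : x ∈ (P : Subgroup G)) (hx1 : x ≠ 1) : orderOf x = p := by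
  haveI := Fact.mk H.hp
  obtain ⟨j, hj⟩ := IsPGroup.iff_orderOf.mp P.2 ⟨x, hx⟩
  rw [Subgroup.orderOf_mk] at hj
  have hj0 : j ≠ 0 := fun e => hx1 (orderOf_eq_one_iff.mp (by rw [hj, e, pow_zero]))
  exact H.hsing x (hj ▸ dvd_pow_self p hj0)

theorem Hyp.cent_pgroup {x : G} (hx : orderOf x = p) :
    IsPGroup p (Subgroup.centralizer ({x} : Set G)) := by
  haveI := Fact.mk H.hp
  rw [IsPGroup.iff_orderOf]
  intro g
  by_cases hg : p ∣ orderOf (g : G)
  · exact ⟨1, by rw [← Subgroup.orderOf_coe, H.hsing _ hg, pow_one]⟩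
  · exact ⟨0, by
      rw [← Subgroup.orderOf_coe, H.not_commute H.hsing hx hg
        (Subgroup.mem_centralizer_singleton_iff.mp g.2).symm, orderOf_one, pow_zero]⟩

/-- An involution normalising `P` inverts it. -/
theorem Hyp.invert {P : Sylow p G} {h : G} (hh : orderOf h = 2)
    (hN : ∀ x ∈ (P : Subgroup G), h * x * h⁻¹ ∈ (P : Subgroup G)) {x : G} (hx : x ∈ (P : Subgroup G)) :
    h * x * h⁻¹ = x⁻¹ := by
  classical
  have hhh : h * h = 1 := by rw [← sq, ← hh, pow_orderOf_eq_one]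
  have hinv : h⁻¹ = h := inv_eq_of_mul_eq_one_right hhh
  let φ : ↥(P : Subgroup G) → ↥(P : Subgroup G) := fun w =>
    ⟨(w : G)⁻¹ * (h * w * h⁻¹), mul_mem (inv_mem w.2) (hN _ w.2)⟩
  have hinj : Function.Injective φ := by
    intro a b hab
    have e : (a : G)⁻¹ * (h * a * h⁻¹) = (b : G)⁻¹ * (h * b * h⁻¹) := congrArg Subtype.val hab
    have hfix : Commute h ((b : G) * (a : G)⁻¹) := by
      have e1 : h * a * h⁻¹ = (a : G) * (b : G)⁻¹ * (h * b * h⁻¹) := by
        rw [mul_assoc (a : G), ← e, mul_inv_cancel_left]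
      show h * ((b : G) * (a : G)⁻¹) = (b : G) * (a : G)⁻¹ * h
      calc h * ((b : G) * (a : G)⁻¹) = (h * b * h⁻¹) * (h * a * h⁻¹)⁻¹ * h := by group
        _ = _ := by rw [e1]; group
    by_contra hne
    have hne' : (b : G) * (a : G)⁻¹ ≠ 1 := fun e' => hne (Subtype.ext (mul_inv_eq_one.mp e').symm)
    have h2 := H.not_commute H.hsing (H.order_of_mem (mul_mem b.2 (inv_mem a.2)) hne')
      (by rw [hh]; exact fun e' => H.hp2 ((Nat.prime_dvd_prime_iff_eq H.hp Nat.prime_two).mp e')) hfix.symm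
    rw [h2, orderOf_one] at hh
    omega
  obtain ⟨w, hw⟩ := Finite.injective_iff_surjective.mp hinj ⟨x, hx⟩
  have e : (w : G)⁻¹ * (h * w * h⁻¹) = x := congrArg Subtype.val hw
  rw [← e, hinv]
  calc h * ((w : G)⁻¹ * (h * w * h)) * h = h * (w : G)⁻¹ * h * w * (h * h) := by group
    _ = h * (w : G)⁻¹ * h * w := by rw [hhh, mul_one]
    _ = ((w : G)⁻¹ * (h⁻¹ * w * h⁻¹))⁻¹ := by group
    _ = ((w : G)⁻¹ * (h * w * h))⁻¹ := by rw [hinv]

theorem Hyp.sylow_comm (P : Sylow p G) {x y : G} (hx : x ∈ (P : Subgroup G)) (hy : y ∈ (P : Subgroup G)) :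
    x * y = y * x := by
  classical
  haveI := Fact.mk H.hp
  have := Fintype.ofFinite G
  have h3 := H.h3
  haveI : Nontrivial (P : Subgroup G) := Finite.one_lt_card_iff_nontrivial.mp (by rw [H.sylow_card P]; omega)
  haveI := IsPGroup.center_nontrivial P.2
  obtain ⟨⟨z, hzc⟩, hz1'⟩ := exists_ne (1 : Subgroup.center (P : Subgroup G))
  have hz1 : (z : G) ≠ 1 := fun e => hz1' (Subtype.ext (Subtype.ext e))
  have hzo := H.order_of_mem z.2 hz1
  have hCz : Subgroup.centralizer ({(z : G)} : Set G) = (P : Subgroup G) :=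
    P.is_maximal' (H.cent_pgroup hzo) fun w hw => Subgroup.mem_centralizer_singleton_iff.mpr
      (congrArg Subtype.val (Subgroup.mem_center_iff.mp hzc ⟨w, hw⟩))
  -- the class of `z` consists of all elements of order `p`
  have hidx : (Subgroup.centralizer ({(z : G)} : Set G)).index = cn G p := by
    have h := Subgroup.card_mul_index (Subgroup.centralizer ({(z : G)} : Set G))
    rw [hCz, H.sylow_card P, H.card] at h
    rw [hCz, H.cn_p]
    exact Nat.eq_of_mul_eq_mul_left (by omega) h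
  rw [← Char.card_isConj_eq_index] at hidx
  let ι : {w : G // IsConj w (z : G)} → {w : G // orderOf w = p} := fun w => ⟨w.1, by
    obtain ⟨c, hc⟩ := isConj_iff.mp w.2
    exact ((MulAut.conj c).orderOf_eq w.1).symm.trans ((congrArg orderOf hc).trans hzo)⟩
  have hι : Function.Surjective ι :=
    ((Nat.bijective_iff_injective_and_card ι).mpr
      ⟨fun a b h => Subtype.ext (congrArg (fun w => w.1) h), hidx⟩).2
  obtain ⟨⟨w, hw⟩, he⟩ := hι ⟨(z : G)⁻¹, by rw [orderOf_inv, hzo]⟩
  obtain ⟨g, hg⟩ := isConj_iff.mp hw.symm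
  have hwz : w = (z : G)⁻¹ := congrArg Subtype.val he
  rw [hwz] at hg
  have hgN : ∀ v ∈ (P : Subgroup G), g * v * g⁻¹ ∈ (P : Subgroup G) := by
    intro v hv
    rw [← hCz, Subgroup.mem_centralizer_singleton_iff] at hv ⊢
    have hc : Commute (g * v * g⁻¹) (g * z * g⁻¹) := Commute.map (show Commute v z from hv) (MulAut.conj g)
    rw [hg] at hc
    exact (Commute.inv_right_iff.mp hc).eq
  have hg2 : g ^ 2 ∈ (P : Subgroup G) := by
    rw [← hCz, Subgroup.mem_centralizer_singleton_iff]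
    have h' : g ^ 2 * (z : G) * (g ^ 2)⁻¹ = z := by
      rw [sq, show g * g * (z : G) * (g * g)⁻¹ = g * (g * z * g⁻¹) * g⁻¹ by group, hg,
        show g * (z : G)⁻¹ * g⁻¹ = (g * z * g⁻¹)⁻¹ by group, hg, inv_inv]
    exact mul_inv_eq_iff_eq_mul.mp h'
  obtain ⟨k, hk⟩ := H.q_odd
  set h := g ^ q with hh
  have hhh : h ^ 2 = 1 := by
    rw [hh, ← pow_mul, mul_comm, pow_mul]
    have := pow_card_eq_one' (x := (⟨g ^ 2, hg2⟩ : (P : Subgroup G)))
    rw [H.sylow_card P] at this
    exact congrArg Subtype.val this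
  have hg2C : Commute ((g ^ 2) ^ k) (z : G) := by
    have h' : g ^ 2 ∈ Subgroup.centralizer ({(z : G)} : Set G) := hCz.symm ▸ hg2
    exact (show Commute (g ^ 2) (z : G) from Subgroup.mem_centralizer_singleton_iff.mp h').pow_left k
  have hhz : h * z * h⁻¹ = (z : G)⁻¹ := by
    rw [hh, hk, pow_succ, pow_mul]
    calc (g ^ 2) ^ k * g * z * ((g ^ 2) ^ k * g)⁻¹ = (g ^ 2) ^ k * (g * z * g⁻¹) * ((g ^ 2) ^ k)⁻¹ := by group
      _ = _ := by rw [hg, hg2C.inv_right.eq, mul_inv_cancel_right]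
  have hho : orderOf h = 2 := orderOf_eq_prime hhh fun e => by
    rw [e, one_mul, inv_one, mul_one] at hhz
    have h2 : (z : G) ^ 2 = 1 := by rw [sq]; nth_rewrite 1 [hhz]; exact inv_mul_cancel _
    have h2' := orderOf_dvd_of_pow_eq_one h2
    rw [hzo] at h2'
    exact H.hp2 ((Nat.prime_dvd_prime_iff_eq H.hp Nat.prime_two).mp h2')
  have hhN : ∀ v ∈ (P : Subgroup G), h * v * h⁻¹ ∈ (P : Subgroup G) := by
    have hpw : ∀ n : ℕ, ∀ v ∈ (P : Subgroup G), g ^ n * v * (g ^ n)⁻¹ ∈ (P : Subgroup G) := by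
      intro n
      induction n with
      | zero => intro v hv; simpa using hv
      | succ m ih =>
        intro v hv
        rw [pow_succ', show g * g ^ m * v * (g * g ^ m)⁻¹ = g * (g ^ m * v * (g ^ m)⁻¹) * g⁻¹ by group]
        exact hgN _ (ih v hv)
    intro v hv
    rw [hh]
    exact hpw q v hv
  have e1 := H.invert hho hhN (mul_mem hx hy)
  rw [show h * (x * y) * h⁻¹ = (h * x * h⁻¹) * (h * y * h⁻¹) by group, H.invert hho hhN hx,
    H.invert hho hhN hy, ← mul_inv_rev] at e1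
  exact (inv_injective e1).symm

theorem Hyp.cent_eq (P : Sylow p G) {x : G} (hx : x ∈ (P : Subgroup G)) (hx1 : x ≠ 1) :
    Subgroup.centralizer ({x} : Set G) = (P : Subgroup G) :=
  P.is_maximal' (H.cent_pgroup (H.order_of_mem hx hx1)) fun _ hw =>
    Subgroup.mem_centralizer_singleton_iff.mpr (H.sylow_comm P hw hx)

theorem Hyp.ti {P Q : Sylow p G} {x : G} (hP : x ∈ (P : Subgroup G)) (hQ : x ∈ (Q : Subgroup G))
    (hx1 : x ≠ 1) : P = Q :=
  Sylow.ext ((H.cent_eq P hP hx1).symm.trans (H.cent_eq Q hQ hx1))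

theorem Hyp.number : Nat.card (Sylow p G) = q + 1 := by
  classical
  haveI := Fact.mk H.hp
  let F : (Σ P : Sylow p G, {x : (P : Subgroup G) // x ≠ 1}) → {g : G // orderOf g = p} :=
    fun z => ⟨z.2.1, H.order_of_mem z.2.1.2 fun e => z.2.2 (Subtype.ext e)⟩
  have hF : Function.Bijective F := by
    refine ⟨?_, ?_⟩
    · rintro ⟨P, ⟨x, hx⟩, hx1⟩ ⟨Q, ⟨y, hy⟩, hy1⟩ e
      have exy : x = y := congrArg Subtype.val e
      subst exy
      obtain rfl := H.ti hx hy fun e' => hx1 (Subtype.ext e')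
      rfl
    · rintro ⟨g, hg⟩
      obtain ⟨P, hP⟩ := (IsPGroup.of_card (n := 1) (by rw [Nat.card_zpowers, hg, pow_one]) :
        IsPGroup p (Subgroup.zpowers g)).exists_le_sylow
      have hg1 : g ≠ 1 := fun e => H.hp.ne_one (by rw [← hg, e, orderOf_one])
      exact ⟨⟨P, ⟨g, hP (Subgroup.mem_zpowers g)⟩, fun e => hg1 (congrArg Subtype.val e)⟩, rfl⟩
  haveI := Fintype.ofFinite (Sylow p G)
  have e : Nat.card _ = Nat.card {g : G // orderOf g = p} := Nat.card_congr (Equiv.ofBijective F hF)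
  have hfib : ∀ P : Sylow p G, Nat.card {x : (P : Subgroup G) // x ≠ 1} = q - 1 := fun P => by
    haveI := Fintype.ofFinite (P : Subgroup G)
    rw [Nat.card_eq_fintype_card, Fintype.card_subtype_compl, Fintype.card_subtype_eq,
      ← Nat.card_eq_fintype_card, H.sylow_card P]
  rw [Nat.card_sigma, Finset.sum_congr rfl (fun P _ => hfib P), Finset.sum_const, Finset.card_univ,
    ← Nat.card_eq_fintype_card, smul_eq_mul, show Nat.card {g : G // orderOf g = p} = cn G p from rfl, H.cn_p,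
    mul_comm (q - 1)] at e
  have h3 := H.h3
  exact Nat.eq_of_mul_eq_mul_right (by omega) e

/-- The Sylow subgroup `P` acts freely on the others. -/
theorem Hyp.eq_one_of_fix {P Q : Sylow p G} (hne : P ≠ Q) {x : G} (hx : x ∈ (P : Subgroup G))
    (h : x • Q = Q) : x = 1 := by
  haveI := Fact.mk H.hp
  by_contra hx1
  have hxN : x ∈ Subgroup.normalizer ((Q : Subgroup G) : Set G) := Sylow.smul_eq_iff_mem_normalizer.mp h
  have hinf := P.2.inf_normalizer_sylow Q
  have hmem : x ∈ (P : Subgroup G) ⊓ Subgroup.normalizer ((Q : Subgroup G) : Set G) := ⟨hx, hxN⟩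
  exact hne (H.ti hx (hinf.le hmem).2 hx1)

theorem Hyp.exists_smul {P Q R : Sylow p G} (hQ : Q ≠ P) (hR : R ≠ P) :
    ∃ x ∈ (P : Subgroup G), x • Q = R := by
  classical
  haveI := Fact.mk H.hp
  have hfixP : ∀ x ∈ (P : Subgroup G), x • P = P := fun x hx =>
    Sylow.smul_eq_iff_mem_normalizer.mpr (Subgroup.le_normalizer hx)
  let F : ↥(P : Subgroup G) → {S : Sylow p G // S ≠ P} := fun x =>
    ⟨(x : G) • Q, fun e => hQ (smul_left_cancel (x : G) (e.trans (hfixP _ x.2).symm))⟩
  have hinj : Function.Injective F := fun a b e => by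
    have e' : (a : G) • Q = (b : G) • Q := congrArg Subtype.val e
    refine Subtype.ext (inv_mul_eq_one.mp (H.eq_one_of_fix hQ.symm (mul_mem (inv_mem a.2) b.2) ?_))
    rw [mul_smul, ← e', inv_smul_smul]
  have hcard : Nat.card (P : Subgroup G) = Nat.card {S : Sylow p G // S ≠ P} := by
    haveI := Fintype.ofFinite (Sylow p G)
    rw [H.sylow_card P, Nat.card_eq_fintype_card (α := {S : Sylow p G // S ≠ P}), Fintype.card_subtype_compl,
      Fintype.card_subtype_eq, ← Nat.card_eq_fintype_card, H.number, Nat.add_sub_cancel]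
  obtain ⟨x, hx⟩ := ((Nat.bijective_iff_injective_and_card F).mpr ⟨hinj, hcard⟩).2 ⟨R, hR⟩
  exact ⟨x, x.2, congrArg Subtype.val hx⟩

/-- The action on the Sylow subgroups is sharp on triples. -/
theorem Hyp.free {g : G} {P Q R : Sylow p G} (hPQ : P ≠ Q) (hQR : Q ≠ R) (hPR : P ≠ R) (hP : g • P = P)
    (hQ : g • Q = Q) (hR : g • R = R) : g = 1 := by
  haveI := Fact.mk H.hp
  obtain ⟨x, hx, hxR⟩ := H.exists_smul hPQ.symm hPR.symm
  have hx1 : x ≠ 1 := fun e => hQR (by rw [← hxR, e, one_smul])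
  have hgx : g * x * g⁻¹ ∈ (P : Subgroup G) := by
    have hgN : g ∈ Subgroup.normalizer ((P : Subgroup G) : Set G) := Sylow.smul_eq_iff_mem_normalizer.mp hP
    exact (Subgroup.mem_normalizer_iff.mp hgN x).mp hx
  have h1 : x⁻¹ * (g * x * g⁻¹) = 1 := by
    refine H.eq_one_of_fix hPQ (mul_mem (inv_mem hx) hgx) ?_
    rw [mul_smul, mul_smul, mul_smul, inv_smul_eq_iff.mpr hQ.symm, hxR, hR, ← hxR, inv_smul_smul]
  have hc : g * x = x * g := mul_inv_eq_iff_eq_mul.mp (inv_mul_eq_one.mp h1).symm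
  have hgP : g ∈ (P : Subgroup G) := by
    rw [← H.cent_eq P hx hx1, Subgroup.mem_centralizer_singleton_iff]
    exact hc
  exact H.eq_one_of_fix hPQ hgP hQ

end CfsgLib.PGLNse
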